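import Cfsg.Agent.Lib.Linear.OmegaSeven.Sylow
import Cfsg.Agent.Lib.Linear.OrthOdd
import Cfsg.Agent.Lib.Linear.OrthOrderStd
import Cfsg.Agent.Lib.FusionSys.Simple
import Cfsg.Agent.Lib.FusionSys.OfGroup
import Cfsg.Agent.Lib.FusionSys.Saturation

/-!
# The 2-fusion system of `Ω₇(q)` for `q ≡ ±3 (mod 8)`
-/

set_option autoImplicit false

namespace Cfsg.Lib.Linear.OmegaSeven

open Module Cfsg Cfsg.Lib.Linear.Orth Cfsg.Lib.FusionSys Cfsg.FusionSystem
open scoped Matrix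

variable {ι : Type} [Fintype ι] [DecidableEq ι] {F : Type*} [Field F] [Fintype F]
  {Q : (ι → F) → F} {B : LinearMap.BilinForm F (ι → F)} {b : Fin 7 → ι → F} {c : F}

theorem sum_two_squares (h2 : (2 : F) ≠ 0) (d : F) : ∃ x y : F, x * x + y * y = d := by
  have hchar : ringChar F ≠ 2 := fun hc => h2 (by
    haveI := ringChar.charP F
    have := CharP.cast_eq_zero F (ringChar F)
    rw [hc] at this
    exact_mod_cast this)
  obtain ⟨x, y, h⟩ := FiniteField.exists_root_sum_quadratic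
    (f := (Polynomial.X ^ 2 : Polynomial F)) (g := Polynomial.X ^ 2 - Polynomial.C d)
    (Polynomial.degree_X_pow 2) (Polynomial.degree_X_pow_sub_C (by decide) _)
    (FiniteField.odd_card_of_char_ne_two hchar)
  refine ⟨x, y, ?_⟩
  simp at h
  linear_combination h

/-- The double transposition with spare indices is conjugate to a diagonal element. -/
theorem Frame.exists_conj_swap (P : Frame Q B b c) (hns : ¬ IsSquare (2 : F))
    {i j k l m m' : Fin 7} (hij : i ≠ j) (hik : i ≠ k) (hil : i ≠ l) (hjk : j ≠ k) (hjl : j ≠ l)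
    (hkl : k ≠ l) (hmm : m ≠ m') (hm : m ≠ i ∧ m ≠ k) (hm' : m' ≠ i ∧ m' ≠ k)
    {e x : ↥(Omega F Q)} (he : Mono b 1 (pairFlip i k) (gl e))
    (hx : Mono b (Equiv.swap i j * Equiv.swap k l) 1 (gl x)) :
    ∃ g : ↥(Omega F Q), g * e * g⁻¹ = x := by
  obtain ⟨s, t, hst⟩ := sum_two_squares (F := F) P.two (2⁻¹)
  have hst' : 2 * (s * s + t * t) = 1 := by rw [hst]; exact mul_inv_cancel₀ P.two
  have C := P.space
  have h1 := P.orth i j hij
  have h2 := P.orth i k hik
  have h3 := P.orth i l hil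
  have h4 := P.orth j k hjk
  have h5 := P.orth j l hjl
  have h6 := P.orth k l hkl
  have h1' := P.orth j i hij.symm
  have h2' := P.orth k i hik.symm
  have h3' := P.orth l i hil.symm
  have h4' := P.orth k j hjk.symm
  have h5' := P.orth l j hjl.symm
  have h6' := P.orth l k hkl.symm
  set b' : Fin 7 → ι → F := fun p =>
    if p = i then s • (b i - b j) + t • (b k - b l)
    else if p = k then (-t) • (b i - b j) + s • (b k - b l)
    else if p = j then s • (b i + b j) + t • (b k + b l)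
    else if p = l then (-t) • (b i + b j) + s • (b k + b l)
    else b p with hb'
  have bi : b' i = s • (b i - b j) + t • (b k - b l) := by simp [hb']
  have bk : b' k = (-t) • (b i - b j) + s • (b k - b l) := by simp [hb', hik.symm]
  have bj : b' j = s • (b i + b j) + t • (b k + b l) := by simp [hb', hij.symm, hjk]
  have bl : b' l = (-t) • (b i + b j) + s • (b k + b l) := by
    simp [hb', hil.symm, hkl.symm, hjl.symm]
  have bo : ∀ p, p ≠ i → p ≠ j → p ≠ k → p ≠ l → b' p = b p := fun p a a' a'' a''' => by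
    simp [hb', a, a', a'', a''']
  have hcases : ∀ p : Fin 7, p = i ∨ p = j ∨ p = k ∨ p = l ∨
      (p ≠ i ∧ p ≠ j ∧ p ≠ k ∧ p ≠ l) := fun p => by tauto
  have hself : ∀ p, B (b' p) (b' p) = 2 * c := by
    intro p
    rcases hcases p with rfl | rfl | rfl | rfl | ⟨a, a', a'', a'''⟩
    all_goals first | rw [bi] | rw [bj] | rw [bk] | rw [bl] | rw [bo p a a' a'' a''']
    all_goals
      simp only [map_add, map_sub, map_smul, LinearMap.add_apply, LinearMap.sub_apply,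
        LinearMap.smul_apply, smul_eq_mul, h1, h2, h3, h4, h5, h6, h1', h2', h3', h4', h5', h6',
        P.self]
    all_goals linear_combination (2 * c) * hst'
  have P' : Frame Q B b' c := by
    refine ⟨P.space, P.two, P.card, P.ne, fun p => ?_, fun p r hpr => ?_⟩
    · have := hself p
      rw [C.self] at this
      exact mul_left_cancel₀ P.two this
    have hout : ∀ p, p ≠ i → p ≠ j → p ≠ k → p ≠ l → ∀ r, r ≠ p → B (b p) (b' r) = 0 := by
      intro p a a' a'' a''' r hr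
      rcases hcases r with rfl | rfl | rfl | rfl | ⟨d, d', d'', d'''⟩
      case inr.inr.inr.inr => rw [bo r d d' d'' d''']; exact P.orth p r (Ne.symm hr)
      all_goals first | rw [bi] | rw [bj] | rw [bk] | rw [bl]
      all_goals simp only [map_add, map_sub, map_smul, P.orth p _ a, P.orth p _ a', P.orth p _ a'',
        P.orth p _ a''', sub_zero, add_zero, smul_zero]
    rcases hcases p with hp | hp | hp | hp | ⟨a, a', a'', a'''⟩
    case inr.inr.inr.inr => rw [bo p a a' a'' a''']; exact hout p a a' a'' a''' r hpr.symm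
    all_goals rcases hcases r with hr | hr | hr | hr | hr
    all_goals first
      | exact absurd (hp.trans hr.symm) hpr
      | (rw [C.symm, bo r hr.1 hr.2.1 hr.2.2.1 hr.2.2.2]
         exact hout r hr.1 hr.2.1 hr.2.2.1 hr.2.2.2 p hpr)
      | skip
    all_goals first | rw [hp, bi] | rw [hp, bj] | rw [hp, bk] | rw [hp, bl]
    all_goals first | rw [hr, bi] | rw [hr, bj] | rw [hr, bk] | rw [hr, bl]
    all_goals
      simp only [map_add, map_sub, map_smul, LinearMap.add_apply, LinearMap.sub_apply,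
        LinearMap.smul_apply, smul_eq_mul, h1, h2, h3, h4, h5, h6, h1', h2', h3', h4', h5', h6',
        P.self]
    all_goals ring1
  obtain ⟨h, hh⟩ := P.exists_map P'
  obtain ⟨r, hr, hcomm⟩ := P.exists_correction hns hmm h
  have hem : ∀ p, p ≠ i → p ≠ k → (gl e).val *ᵥ b p = b p := fun p a a' => by
    rw [he p]; simp [pairFlip, a, a']
  have hce : Commute (e : ↥(isometryGroup F Q)) r := hcomm _ (hem m hm.1 hm.2) (hem m' hm'.1 hm'.2)
  refine ⟨⟨h * r, hr⟩, Subtype.ext ?_⟩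
  show h * r * (e : ↥(isometryGroup F Q)) * (h * r)⁻¹ = x
  rw [show h * r * (e : ↥(isometryGroup F Q)) * (h * r)⁻¹ = h * (r * e * r⁻¹) * h⁻¹ by group,
    ← hce.eq, mul_inv_cancel_right, mul_inv_eq_iff_eq_mul]
  refine Subtype.ext (P.ext fun p => ?_)
  rw [Subgroup.coe_mul, Subgroup.coe_mul, mul_act, mul_act, hh p, he p, Matrix.mulVec_smul]
  show (sc (pairFlip i k p) : F) • ((h : GL ι F).val *ᵥ b p) = (gl x).val *ᵥ b' p
  rw [hh p]
  have xi := hx i
  have xj := hx j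
  have xk := hx k
  have xl := hx l
  simp [Equiv.Perm.mul_apply, Equiv.swap_apply_of_ne_of_ne, hik, hil, hij.symm, hjk, hjl] at xi xj
  simp [Equiv.Perm.mul_apply, Equiv.swap_apply_of_ne_of_ne, hik.symm, hjk.symm, hil.symm,
    hjl.symm] at xk xl
  rcases hcases p with rfl | rfl | rfl | rfl | ⟨a, a', a'', a'''⟩
  · rw [bi]
    simp [Matrix.mulVec_add, Matrix.mulVec_sub, Matrix.mulVec_smul, pairFlip, xi, xj, xk, xl]
    module
  · rw [bj]
    simp [Matrix.mulVec_add, Matrix.mulVec_sub, Matrix.mulVec_smul, Matrix.mulVec_neg, pairFlip,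
      xi, xj, xk, xl, hij.symm, hjk]
    module
  · rw [bk]
    simp [Matrix.mulVec_add, Matrix.mulVec_sub, Matrix.mulVec_smul, Matrix.mulVec_neg, pairFlip,
      xi, xj, xk, xl]
    module
  · rw [bl]
    simp [Matrix.mulVec_add, Matrix.mulVec_sub, Matrix.mulVec_smul, Matrix.mulVec_neg, pairFlip,
      xi, xj, xk, xl, hil.symm, hkl.symm]
    module
  · rw [bo p a a' a'' a''', hx p]
    simp [pairFlip, a, a'', Equiv.swap_apply_of_ne_of_ne a a',
      Equiv.swap_apply_of_ne_of_ne a'' a''']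

section Closed

variable (P : Frame Q B b c) (hns : ¬ IsSquare (2 : F)) {S : Sylow 2 ↥(Omega F Q)}
  (hS : (S : Subgroup ↥(Omega F Q)) = monoSylow b)

include P hns hS

/-- The only strongly closed subgroups are the trivial one and the Sylow subgroup. -/
theorem stronglyClosed_eq {T : Subgroup ↥(Omega F Q)}
    (hT : (groupFusionSystem (S : Subgroup ↥(Omega F Q))).StronglyClosed T) :
    T = ⊥ ∨ T = (S : Subgroup ↥(Omega F Q)) := by
  classical
  by_cases hT1 : T = ⊥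
  · exact Or.inl hT1
  refine Or.inr (le_antisymm hT.1 ?_)
  have hconj : ∀ x ∈ T, ∀ g, g * x * g⁻¹ ∈ monoSylow b → g * x * g⁻¹ ∈ T := fun x hx g hg =>
    conj_mem_of_stronglyClosed S hT hx (hS ▸ hg)
  -- a central element of `T`
  obtain ⟨z, hzT, hz1, hzc⟩ : ∃ z ∈ T, z ≠ 1 ∧ ∀ y ∈ monoSylow b, y * z = z * y := by
    haveI : (T.subgroupOf (S : Subgroup ↥(Omega F Q))).Normal := ⟨fun n hn g => by
      rw [Subgroup.mem_subgroupOf] at hn ⊢
      refine hconj _ hn g.1 ?_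
      rw [← hS]
      exact mul_mem (mul_mem g.2 (hT.1 hn)) (inv_mem g.2)⟩
    have hne : T.subgroupOf (S : Subgroup ↥(Omega F Q)) ≠ ⊥ := fun h => hT1 (by
      rw [Subgroup.subgroupOf_eq_bot, disjoint_iff, inf_eq_left.2 hT.1] at h
      exact h)
    obtain ⟨⟨z, hz⟩, hz1⟩ := (Subgroup.ne_bot_iff_exists_ne_one).1
      (Cfsg.Lib.PGroup.inf_center_ne_bot S.isPGroup' hne)
    obtain ⟨hzT, hzC⟩ := Subgroup.mem_inf.1 hz
    refine ⟨z.1, hzT, fun h => hz1 (Subtype.ext (Subtype.ext h)), fun y hy => ?_⟩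
    exact congrArg Subtype.val (Subgroup.mem_center_iff.1 hzC ⟨y, hS ▸ hy⟩)
  obtain ⟨τ, hτ, ζ, hζ⟩ : z ∈ monoSylow b := hS ▸ hT.1 hzT
  have hτ1 : τ = 1 := by
    refine Equiv.ext fun i => ?_
    by_contra hne
    rw [Equiv.Perm.one_apply] at hne
    obtain ⟨l, -, -, hl1, hl2, -, -⟩ := exists_other i (τ i)
    obtain ⟨e, he⟩ := P.exists_mono_omega hns (σ := 1) (ε := pairFlip (τ i) l) (by simp)
      (prod_pairFlip hl2.symm)
    have h1 := he.mul hζ
    have h2 := hζ.mul he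
    have e' : gl e * gl z = gl z * gl e := congrArg gl (hzc e ⟨1, one_mem_dSet, _, he⟩)
    rw [e'] at h1
    have h3 := congrFun (P.mono_unique h1 h2).2 i
    rw [mul_comm (ζ i)] at h3
    simp [pairFlip, hl1.symm, Ne.symm hne] at h3
  subst hτ1
  -- the sign vectors of the diagonal part of `T`
  let W : Set (Fin 7 → ℤˣ) := {ε | ∃ x ∈ T, Mono b 1 ε (gl x)}
  have hWone : (1 : Fin 7 → ℤˣ) ∈ W := ⟨1, T.one_mem, mono_one⟩
  have hWmul : ∀ ε η, ε ∈ W → η ∈ W → ε * η ∈ W := fun ε η ⟨x, hx, hε⟩ ⟨y, hy, hη⟩ => by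
    refine ⟨x * y, T.mul_mem hx hy, ?_⟩
    have := hε.mul hη
    rw [one_mul] at this
    rw [mul_comm ε]
    exact this
  have hWperm : ∀ ε (σ : Equiv.Perm (Fin 7)), Equiv.Perm.sign σ = 1 → ε ∈ W → ε ∘ ⇑σ ∈ W := by
    rintro ε σ hσ ⟨x, hx, hε⟩
    obtain ⟨g, hg⟩ := P.exists_mono_omega hns (σ := σ⁻¹) (ε := 1) (by rw [map_inv, hσ, inv_one])
      (by simp)
    have h := gl_conj hg hε
    rw [mul_one, mul_inv_cancel] at h
    refine ⟨g * x * g⁻¹, hconj x hx g ⟨1, one_mem_dSet, _, h⟩, ?_⟩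
    simpa [Function.comp_def] using h
  have hζ1 : ζ ≠ 1 := fun h => hz1 (Subtype.ext (Subtype.ext (P.mono_ext (h ▸ hζ) mono_one)))
  obtain ⟨σ, hσ, a, a', haa, hw⟩ := exists_weight_two (P.even_of_mono hns hζ).2 hζ1
  have hW2 : pairFlip a a' ∈ W := hw ▸ hWmul _ _ ⟨z, hzT, hζ⟩ (hWperm _ σ hσ ⟨z, hzT, hζ⟩)
  have hWpair : ∀ i k, i ≠ k → pairFlip i k ∈ W := fun i k hik => by
    obtain ⟨π, hπ, h1, h2⟩ := exists_even_map hik haa
    have := hWperm _ π hπ hW2
    rwa [pairFlip_comp, ← h1, ← h2, Equiv.symm_apply_apply, Equiv.symm_apply_apply] at this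
  have hWall : ∀ e ∈ evens, e ∈ W := fun e he => by
    rw [eq_prod_pairFlip e he]
    refine Finset.prod_induction _ (· ∈ W) hWmul hWone fun i _ => ?_
    split_ifs with h
    · exact hWpair i 6 h.2
    · exact hWone
  have hdiag : diagSub b ≤ T := fun y ⟨ε, hy⟩ => by
    obtain ⟨x, hx, hε⟩ := hWall ε (by simp [evens, (P.even_of_mono hns hy).2])
    rwa [show y = x from Subtype.ext (Subtype.ext (P.mono_ext hy hε))]
  -- the permutations realised in `T`
  let K : Set (Equiv.Perm (Fin 7)) := {σ | ∃ x ∈ T, ∃ ε, Mono b σ ε (gl x)}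
  have hKmul : ∀ σ π, σ ∈ K → π ∈ K → σ * π ∈ K := fun σ π ⟨x, hx, ε, hε⟩ ⟨y, hy, η, hη⟩ =>
    ⟨x * y, T.mul_mem hx hy, _, hε.mul hη⟩
  have hswap : ∀ (i j k l m m' : Fin 7), i ≠ j → i ≠ k → i ≠ l → j ≠ k → j ≠ l → k ≠ l →
      m ≠ m' → (m ≠ i ∧ m ≠ k) → (m' ≠ i ∧ m' ≠ k) →
      Equiv.swap i j * Equiv.swap k l ∈ dSet → Equiv.swap i j * Equiv.swap k l ∈ K := by
    intro i j k l m m' a1 a2 a3 a4 a5 a6 a7 a8 a9 hd
    obtain ⟨e, he⟩ := P.exists_mono_omega hns (σ := 1) (by simp) (prod_pairFlip a2)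
    obtain ⟨x, hx⟩ := P.exists_mono_omega hns (sign_dSet hd) (ε := 1) (by simp)
    obtain ⟨g, hg⟩ := P.exists_conj_swap hns a1 a2 a3 a4 a5 a6 a7 a8 a9 he hx
    refine ⟨x, ?_, 1, hx⟩
    rw [← hg]
    exact hconj e (hdiag ⟨_, he⟩) g (by rw [hg]; exact ⟨_, hd, 1, hx⟩)
  have ht : tP ∈ K := by
    rw [tP_eq]
    exact hswap 0 2 4 5 1 3 (by decide) (by decide) (by decide) (by decide) (by decide)
      (by decide) (by decide) (by decide) (by decide) (tP_eq ▸ tP_mem)
  have hu : uP ∈ K := by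
    rw [uP_eq]
    exact hswap 0 3 1 2 4 5 (by decide) (by decide) (by decide) (by decide) (by decide)
      (by decide) (by decide) (by decide) (by decide) (uP_eq ▸ uP_mem)
  have hK : ∀ d ∈ dSet, d ∈ K := fun d hd => by
    simp only [dSet, dList_words, List.mem_toFinset, List.mem_cons, List.not_mem_nil, or_false]
      at hd
    rcases hd with rfl | rfl | rfl | rfl | rfl | rfl | rfl | rfl <;>
      first
        | exact ⟨1, T.one_mem, 1, mono_one⟩
        | exact ht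
        | exact hu
        | exact hKmul _ _ (hKmul _ _ (hKmul _ _ ht hu) ht) hu
        | exact hKmul _ _ ht hu
        | exact hKmul _ _ hu ht
        | exact hKmul _ _ (hKmul _ _ ht hu) ht
        | exact hKmul _ _ (hKmul _ _ hu ht) hu
  intro y hy
  obtain ⟨σ, hσ, ε, hε⟩ : y ∈ monoSylow b := hS ▸ hy
  obtain ⟨x, hx, η, hη⟩ := hK σ hσ
  have hd : x⁻¹ * y ∈ diagSub b := by
    have := hη.inv.mul hε
    rw [inv_mul_cancel] at this
    exact ⟨_, this⟩
  have := T.mul_mem hx (hdiag hd)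
  rwa [mul_inv_cancel_left] at this

/-- Automorphisms induced on the Sylow subgroup are inner. -/
theorem autGroup_eq_inn :
    (groupFusionSystem (S : Subgroup ↥(Omega F Q))).autGroup (S : Subgroup ↥(Omega F Q)) =
      Inn ↥(S : Subgroup ↥(Omega F Q)) := by
  rw [autGroup_groupFusionSystem _ le_rfl]
  ext α
  rw [mem_autInducedBy]
  constructor
  · rintro ⟨g, -, hg⟩
    have hgS : g ∈ (S : Subgroup ↥(Omega F Q)) := by
      rw [hS]
      refine mem_monoSylow_of_normalizes P hns fun x hx => ?_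
      rw [← hS] at hx ⊢
      rw [← hg ⟨x, hx⟩]
      exact (α _).2
    exact ⟨⟨g, hgS⟩, MulEquiv.ext fun x => Subtype.ext (hg x).symm⟩
  · rintro ⟨s, rfl⟩
    exact ⟨s.1, Subgroup.mem_top _, fun x => rfl⟩

/-- The fusion system is simple. -/
theorem fusion_isSimple :
    (groupFusionSystem (S : Subgroup ↥(Omega F Q))).IsSimple 2 := by
  haveI : Finite ↥(Omega F Q) := inferInstance
  have hsat := isSaturated_groupFusionSystem S
  refine isSimple_of_forall hsat ?_ (fun T hT => stronglyClosed_eq P hns hS hT) ?_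
  · intro h
    have := card_monoSylow P hns
    rw [← hS, h, Subgroup.card_bot] at this
    omega
  intro E _ hEi β hβ
  obtain ⟨s, rfl⟩ : β ∈ Inn ↥(S : Subgroup ↥(Omega F Q)) := autGroup_eq_inn P hns hS ▸ hβ
  obtain ⟨k, hk⟩ := S.isPGroup' s
  exact autGroup_pElement_mem hEi
    (isFullyAutomized_and_fc_of_fn S.isPGroup' hsat (isFullyNormalized_top _)).2 hβ
    (k := k) (by rw [← map_pow, hk, map_one])

end Closed

/-- The order of `Ω₇(q)` is `2^9` times an odd number when `q ≡ ±3 (mod 8)`. -/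
theorem factorization_card_omega (q : ℕ) (hF : Fintype.card F = q)
    (hq : q % 8 = 3 ∨ q % 8 = 5) :
    (Nat.card ↥(Omega F (quadFormOdd 3 F))).factorization 2 ≤ 9 := by
  have hodd : Odd q := Nat.odd_iff.2 (by omega)
  have h2 := two_ne_zero_of_odd_card (F := F) (hF ▸ hodd)
  obtain ⟨B, C⟩ := exists_space (isQuad_odd (F := F) 3 h2)
  have hidx := (omega_odd C h2 (by simp)).2.1
  have hc := (counts_odd (F := F) h2 3).2.2
  have hmul := (commutator ↥(isometryGroup F (quadFormOdd 3 F))).card_mul_index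
  rw [hidx] at hmul
  set N := Nat.card ↥(Omega F (quadFormOdd 3 F)) with hN
  rw [← hmul, Nat.card_eq_fintype_card, hF] at hc
  obtain ⟨a, ha, hao⟩ : ∃ a : ℕ, q ^ 2 = 8 * a + 1 ∧ Odd a := by
    obtain ⟨k, hk⟩ : ∃ k, q = 8 * k + 3 ∨ q = 8 * k + 5 :=
      ⟨q / 8, by omega⟩
    rcases hk with rfl | rfl
    · exact ⟨2 * (4 * k * k + 3 * k) + 1, by ring, ⟨_, rfl⟩⟩
    · exact ⟨2 * (4 * k * k + 5 * k + 1) + 1, by ring, ⟨_, rfl⟩⟩
  have key : (N : ℤ) = 2 ^ 9 * ((q : ℤ) ^ 9 * a ^ 3 * (4 * a + 1) *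
      ((q : ℤ) ^ 4 + q ^ 2 + 1)) := by
    have hz : (q : ℤ) ^ 2 = 8 * a + 1 := by exact_mod_cast ha
    simp only [Finset.prod_range_succ, Finset.prod_range_zero] at hc
    push_cast at hc
    have e4 : (q : ℤ) ^ 4 = (8 * a + 1) ^ 2 := by rw [← hz]; ring
    have e6 : (q : ℤ) ^ 6 - 1 = (8 * a) * ((q : ℤ) ^ 4 + q ^ 2 + 1) := by
      linear_combination ((q : ℤ) ^ 4 + q ^ 2 + 1) * hz
    have h4 : (N : ℤ) * 4 = 2 * (q : ℤ) ^ 9 * ((q : ℤ) ^ 2 - 1) * ((q : ℤ) ^ 4 - 1) *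
        ((q : ℤ) ^ 6 - 1) := by
      linear_combination hc
    rw [e6, e4, hz] at h4
    refine mul_right_cancel₀ (b := (4 : ℤ)) (by norm_num) ?_
    rw [h4, e4, hz]
    ring
  by_contra hgt
  have hN0 : N ≠ 0 := Nat.card_pos.ne'
  have hdvd : 2 ^ 10 ∣ N := (Nat.prime_two.pow_dvd_iff_le_factorization hN0).2 (by omega)
  have keyN : N = 2 ^ 9 * (q ^ 9 * a ^ 3 * (4 * a + 1) * (q ^ 4 + q ^ 2 + 1)) := by
    exact_mod_cast key
  rw [keyN, show (2 : ℕ) ^ 10 = 2 ^ 9 * 2 by norm_num,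
    Nat.mul_dvd_mul_iff_left (by norm_num)] at hdvd
  have hM : Odd (q ^ 9 * a ^ 3 * (4 * a + 1) * (q ^ 4 + q ^ 2 + 1)) := by
    refine ((hodd.pow.mul hao.pow).mul ⟨2 * a, by ring⟩).mul ?_
    rw [Nat.odd_add_one, Nat.not_odd_iff_even]
    exact hodd.pow.add_odd hodd.pow
  exact (Nat.not_even_iff_odd.2 hM) (even_iff_two_dvd.2 hdvd)

/-- The standard form has an orthogonal frame. -/
theorem exists_frame (h2 : (2 : F) ≠ 0) :
    ∃ (B : LinearMap.BilinForm F (Unit ⊕ (Fin 3 ⊕ Fin 3) → F))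
      (b : Fin 7 → Unit ⊕ (Fin 3 ⊕ Fin 3) → F),
      Frame (quadFormOdd 3 F) B b (-1) := by
  obtain ⟨B, C⟩ := exists_space (isQuad_odd (F := F) 3 h2)
  obtain ⟨x, y, hxy⟩ := sum_two_squares h2 (-1 : F)
  let v : F → F → F → F → F → F → F → (Unit ⊕ (Fin 3 ⊕ Fin 3) → F) :=
    fun o e0 f0 e1 f1 e2 f2 => Sum.elim (fun _ => o) (Sum.elim ![e0, e1, e2] ![f0, f1, f2])
  let b : Fin 7 → (Unit ⊕ (Fin 3 ⊕ Fin 3) → F) :=
    ![v 0 x x y y 0 0, v 0 (-y) (-y) x x 0 0, v 0 1 (-1) 0 0 0 0, v 0 0 0 1 (-1) 0 0,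
      v 0 0 0 0 0 1 (-1), v y 0 0 0 0 x x, v x 0 0 0 0 (-y) (-y)]
  refine ⟨B, b, ⟨C, h2, by simp, neg_ne_zero.2 one_ne_zero, fun i => ?_, fun i j hij => ?_⟩⟩
  · fin_cases i <;> simp [b, v, quadFormOdd, Fin.sum_univ_three] <;>
      first | linear_combination hxy | rfl
  · rw [← C.polar]
    fin_cases i <;> fin_cases j <;>
      first
        | exact absurd rfl hij
        | (simp [b, v, QuadraticMap.polar, quadFormOdd, Fin.sum_univ_three]; done)
        | (simp [b, v, QuadraticMap.polar, quadFormOdd, Fin.sum_univ_three]; ring1)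

theorem not_isSquare_two (q : ℕ) (hF : Fintype.card F = q) (hq : q % 8 = 3 ∨ q % 8 = 5) :
    ¬ IsSquare (2 : F) := by
  rw [FiniteField.isSquare_two_iff, hF]
  omega

/-- Every Sylow 2-subgroup is monomial in some frame. -/
theorem exists_frame_sylow (q : ℕ) (hF : Fintype.card F = q) (hq : q % 8 = 3 ∨ q % 8 = 5)
    (S : Sylow 2 ↥(Omega F (quadFormOdd 3 F))) :
    ∃ (B : LinearMap.BilinForm F (Unit ⊕ (Fin 3 ⊕ Fin 3) → F))
      (b : Fin 7 → Unit ⊕ (Fin 3 ⊕ Fin 3) → F),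
      Frame (quadFormOdd 3 F) B b (-1) ∧
      (S : Subgroup ↥(Omega F (quadFormOdd 3 F))) = monoSylow b := by
  classical
  have h2 := two_ne_zero_of_odd_card (F := F) (hF ▸ Nat.odd_iff.2 (by omega))
  have hns := not_isSquare_two q hF hq
  obtain ⟨B, b, P⟩ := exists_frame (F := F) h2
  have hc := card_monoSylow P hns
  obtain ⟨S₀, hS₀⟩ := exists_sylow_eq (H := monoSylow (Q := quadFormOdd 3 F) b) (p := 2)
    (IsPGroup.of_card (n := 9) (by rw [hc]; norm_num)) (by
      rw [hc]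
      exact (Nat.pow_le_pow_right (by norm_num) (factorization_card_omega q hF hq)).trans
        (by norm_num))
  obtain ⟨g, rfl⟩ := MulAction.exists_smul_eq ↥(Omega F (quadFormOdd 3 F)) S₀ S
  refine ⟨B, fun i => (gl g).val *ᵥ b i,
    ⟨P.space, P.two, P.card, P.ne, fun i => ?_, fun i j hij => ?_⟩, ?_⟩
  · rw [mem_iso.mp (g : ↥(isometryGroup F (quadFormOdd 3 F))).2, P.norm]
  · rw [P.space.B_act (g : ↥(isometryGroup F (quadFormOdd 3 F))).2, P.orth i j hij]
  rw [Sylow.coe_subgroup_smul, hS₀]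
  ext x
  rw [Subgroup.mem_pointwise_smul_iff_inv_smul_mem]
  have hx : ((MulAut.conj g)⁻¹ • x) = g⁻¹ * x * g := by
    simp [MulAut.smul_def, MulAut.conj_inv_apply]
  rw [hx]
  constructor <;> rintro ⟨σ, hσ, ε, h⟩ <;> refine ⟨σ, hσ, ε, fun i => ?_⟩
  · show (gl x).val *ᵥ ((gl g).val *ᵥ b i) = _
    rw [← mul_act, show gl x * gl g = gl g * gl (g⁻¹ * x * g) from
      congrArg gl (show x * g = g * (g⁻¹ * x * g) by group), mul_act, h i, Matrix.mulVec_smul]
  · show (gl g⁻¹ * gl x * gl g).val *ᵥ b i = _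
    rw [mul_act, mul_act, h i, Matrix.mulVec_smul]
    exact congrArg _ (inv_act (gl g) _)

end Cfsg.Lib.Linear.OmegaSeven
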