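import Cfsg.Agent.Lib.Linear.OrthSpinor

/-!
# Signed permutations of an orthogonal frame

For an orthogonal frame of seven vectors of equal norm `c` in a seven-dimensional space over a
finite field in which `2` is not a square: the signed permutation isometries and their membership
in `Ω`.
-/

set_option autoImplicit false

namespace Cfsg.Lib.Linear.OmegaSeven

open Module Cfsg.Lib.Linear.Orth
open scoped Matrix

variable {ι : Type} [Fintype ι] [DecidableEq ι] {F : Type*} [Field F]
  {Q : (ι → F) → F} {B : LinearMap.BilinForm F (ι → F)}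

/-- A sign as a scalar. -/
def sc (u : ℤˣ) : F := ((u : ℤ) : F)

@[simp] theorem sc_one : sc (1 : ℤˣ) = (1 : F) := by simp [sc]

@[simp] theorem sc_neg_one : sc (-1 : ℤˣ) = (-1 : F) := by simp [sc]

theorem sc_mul (u v : ℤˣ) : sc (u * v) = (sc u * sc v : F) := by simp [sc]

theorem sc_sq (u : ℤˣ) : (sc u * sc u : F) = 1 := by
  rw [← sc_mul, Int.units_mul_self, sc_one]

theorem sc_ne_zero (u : ℤˣ) : (sc u : F) ≠ 0 := fun h => by simpa [h] using sc_sq (F := F) u

theorem sc_inj (h2 : (2 : F) ≠ 0) {u v : ℤˣ} (h : (sc u : F) = sc v) : u = v := by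
  rcases Int.units_eq_one_or u with rfl | rfl <;> rcases Int.units_eq_one_or v with rfl | rfl
  · rfl
  · simp at h; exact absurd (by linear_combination h) h2
  · simp at h; exact absurd (by linear_combination -h) h2
  · rfl

/-- Seven pairwise orthogonal vectors of one non-zero norm spanning the space. -/
structure Frame (Q : (ι → F) → F) (B : LinearMap.BilinForm F (ι → F)) (b : Fin 7 → ι → F) (c : F) :
    Prop where
  space : Space Q B
  two : (2 : F) ≠ 0
  card : Fintype.card ι = 7
  ne : c ≠ 0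
  norm : ∀ i, Q (b i) = c
  orth : ∀ i j, i ≠ j → B (b i) (b j) = 0

variable {b : Fin 7 → ι → F} {c : F}

theorem Frame.ne_zero (P : Frame Q B b c) (i : Fin 7) : Q (b i) ≠ 0 := (P.norm i).symm ▸ P.ne

theorem Frame.self (P : Frame Q B b c) (i : Fin 7) : B (b i) (b i) = 2 * c := by
  rw [P.space.self, P.norm]

theorem Frame.linearIndependent (P : Frame Q B b c) : LinearIndependent F b := by
  rw [Fintype.linearIndependent_iff]
  intro a ha i
  have h1 := congrArg (B (b i)) ha
  rw [map_sum, map_zero, Finset.sum_eq_single i (fun j _ hj => by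
    rw [map_smul, P.orth i j (Ne.symm hj), smul_zero]) (fun h => absurd (Finset.mem_univ i) h),
    map_smul, P.self, smul_eq_mul] at h1
  exact (mul_eq_zero.mp h1).resolve_right (mul_ne_zero P.two P.ne)

/-- The basis given by a frame. -/
noncomputable def Frame.basis (P : Frame Q B b c) : Basis (Fin 7) F (ι → F) :=
  basisOfLinearIndependentOfCardEqFinrank P.linearIndependent
    (by rw [finrank_fintype_fun_eq_card, P.card, Fintype.card_fin])

theorem Frame.basis_apply (P : Frame Q B b c) (i : Fin 7) : P.basis i = b i := by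
  simp [Frame.basis]

theorem Frame.ext (P : Frame Q B b c) {g h : GL ι F}
    (H : ∀ i, g.val *ᵥ b i = h.val *ᵥ b i) : g = h := by
  refine gl_ext fun x => ?_
  have : Matrix.mulVecLin g.val = Matrix.mulVecLin h.val :=
    P.basis.ext fun i => by simp [P.basis_apply, H i]
  exact LinearMap.congr_fun this x

/-- A second frame of the same norm is the image of the first under an isometry. -/
theorem Frame.exists_map (P : Frame Q B b c) {b' : Fin 7 → ι → F} (P' : Frame Q B b' c) :
    ∃ g : ↥(isometryGroup F Q), ∀ i, (g : GL ι F).val *ᵥ b i = b' i := by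
  set e := P.basis.equiv P'.basis (Equiv.refl _) with he
  have eb : ∀ i, e (b i) = b' i := fun i => by
    rw [← P.basis_apply, he, Basis.equiv_apply, P'.basis_apply]; rfl
  have hval : (toGL (LinearMap.toMatrix' e.toLinearMap)).val = LinearMap.toMatrix' e.toLinearMap :=
    toGL_val (M' := LinearMap.toMatrix' e.symm.toLinearMap) (by
      rw [← LinearMap.toMatrix'_comp]; simp)
  have act : ∀ x, (toGL (LinearMap.toMatrix' e.toLinearMap)).val *ᵥ x = e x := fun x => by
    rw [hval, LinearMap.toMatrix'_mulVec]; rfl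
  have hB : B.compl₁₂ e.toLinearMap e.toLinearMap = B := by
    refine LinearMap.ext_basis P.basis P.basis fun i j => ?_
    simp only [LinearMap.compl₁₂_apply, LinearEquiv.coe_coe, P.basis_apply, eb]
    by_cases hij : i = j
    · subst hij; rw [P.self, P'.self]
    · rw [P.orth i j hij, P'.orth i j hij]
  refine ⟨⟨toGL (LinearMap.toMatrix' e.toLinearMap), mem_iso.mpr fun v => ?_⟩,
    fun i => (act (b i)).trans (eb i)⟩
  rw [act]
  have h1 : B (e v) (e v) = B v v := by
    have := congrArg (fun f : LinearMap.BilinForm F (ι → F) => f v v) hB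
    simpa [LinearMap.compl₁₂_apply] using this
  rw [P.space.self, P.space.self] at h1
  exact mul_left_cancel₀ P.two h1

/-- `g` maps each frame vector to a signed frame vector. -/
def Mono (b : Fin 7 → ι → F) (σ : Equiv.Perm (Fin 7)) (ε : Fin 7 → ℤˣ) (g : GL ι F) : Prop :=
  ∀ i, g.val *ᵥ b i = (sc (ε i) : F) • b (σ i)

theorem mono_one : Mono b 1 1 (1 : GL ι F) := fun i => by simp

theorem Mono.mul {σ τ : Equiv.Perm (Fin 7)} {ε η : Fin 7 → ℤˣ} {g h : GL ι F}
    (hg : Mono b σ ε g) (hh : Mono b τ η h) :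
    Mono b (σ * τ) (fun i => η i * ε (τ i)) (g * h) := fun i => by
  rw [mul_act, hh i, Matrix.mulVec_smul, hg (τ i), smul_smul, Equiv.Perm.mul_apply, sc_mul]

theorem Mono.inv {σ : Equiv.Perm (Fin 7)} {ε : Fin 7 → ℤˣ} {g : GL ι F} (hg : Mono b σ ε g) :
    Mono b σ⁻¹ (fun i => ε (σ⁻¹ i)) g⁻¹ := fun i => by
  apply act_injective g
  show g.val *ᵥ _ = g.val *ᵥ _
  rw [act_inv, Matrix.mulVec_smul, hg (σ⁻¹ i), Equiv.Perm.inv_def, Equiv.apply_symm_apply,
    smul_smul, sc_sq, one_smul]

theorem Frame.mono_unique (P : Frame Q B b c) {σ τ : Equiv.Perm (Fin 7)} {ε η : Fin 7 → ℤˣ}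
    {g : GL ι F} (hg : Mono b σ ε g) (hh : Mono b τ η g) : σ = τ ∧ ε = η := by
  have h : ∀ i, σ i = τ i ∧ ε i = η i := fun i => by
    have e := (hg i).symm.trans (hh i)
    have hst : σ i = τ i := by
      by_contra hne
      have h1 := congrArg (B (b (σ i))) e
      rw [map_smul, map_smul, P.self, P.orth _ _ hne, smul_zero, smul_eq_mul] at h1
      exact mul_ne_zero (sc_ne_zero _) (mul_ne_zero P.two P.ne) h1
    refine ⟨hst, sc_inj P.two ?_⟩
    rw [hst] at e
    exact smul_left_injective F (P.linearIndependent.ne_zero (τ i)) e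
  exact ⟨Equiv.ext fun i => (h i).1, funext fun i => (h i).2⟩

theorem Frame.mono_ext (P : Frame Q B b c) {σ : Equiv.Perm (Fin 7)} {ε : Fin 7 → ℤˣ}
    {g h : GL ι F} (hg : Mono b σ ε g) (hh : Mono b σ ε h) : g = h :=
  P.ext fun i => (hg i).trans (hh i).symm

theorem Frame.refl_flip (P : Frame Q B b c) (a : Fin 7) :
    Mono b 1 (Pi.mulSingle a (-1)) ((rI P.space (b a) (P.ne_zero a) : ↥(isometryGroup F Q)) : GL ι F) := by
  intro i
  rw [rI_val]
  by_cases h : i = a
  · subst h
    rw [rGL_self P.space (P.ne_zero i)]; simp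
  · rw [rGL_fix P.space (P.ne_zero a) (P.orth a i (Ne.symm h))]; simp [h]

theorem Frame.norm_sub (P : Frame Q B b c) {x y : Fin 7} (h : x ≠ y) :
    Q (b x - b y) = 2 * c := by
  rw [sub_eq_add_neg, P.space.add, P.space.neg, P.norm, P.norm, map_neg, P.orth x y h]; ring

theorem Frame.refl_swap (P : Frame Q B b c) {x y : Fin 7} (h : x ≠ y) :
    Mono b (Equiv.swap x y) 1 ((rI P.space (b x - b y)
      (by rw [P.norm_sub h]; exact mul_ne_zero P.two P.ne) : ↥(isometryGroup F Q)) : GL ι F) := by
  have hv : Q (b x - b y) ≠ 0 := by rw [P.norm_sub h]; exact mul_ne_zero P.two P.ne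
  have h2c := mul_ne_zero P.two P.ne
  intro i
  rw [rI_val, rGL_act P.space hv, P.norm_sub h, map_sub, LinearMap.sub_apply]
  by_cases hx : i = x
  · subst hx
    rw [P.self, P.orth y i (Ne.symm h), sub_zero, inv_mul_cancel₀ h2c]; simp
  by_cases hy : i = y
  · subst hy
    rw [P.self, P.orth x i h, zero_sub, mul_neg, inv_mul_cancel₀ h2c]; simp
  rw [P.orth x i (Ne.symm hx), P.orth y i (Ne.symm hy), Equiv.swap_apply_of_ne_of_ne hx hy]
  simp

variable [Fintype F]

open scoped Classical in
/-- The spinor value of the signed permutation. -/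
noncomputable def spinVal (c : F) (σ : Equiv.Perm (Fin 7)) (ε : Fin 7 → ℤˣ) : ℤˣ :=
  if IsSquare c then ∏ i, ε i else Equiv.Perm.sign σ

theorem Frame.exists_mono (P : Frame Q B b c) (hns : ¬ IsSquare (2 : F))
    (σ : Equiv.Perm (Fin 7)) (ε : Fin 7 → ℤˣ) :
    ∃ g : ↥(isometryGroup F Q), Mono b σ ε (g : GL ι F) ∧
      detSpin Q g = (Units.map (Int.castRingHom F).toMonoidHom (Equiv.Perm.sign σ * ∏ i, ε i),
        spinVal c σ ε) := by
  classical
  have hdet : ∀ v (hv : Q v ≠ 0), detSpin Q (rI P.space v hv) =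
      ((-1 : Fˣ), if IsSquare (Q v) then (-1 : ℤˣ) else 1) := fun v hv =>
    Prod.ext (det_rI P.space hv) (spin_rI P.space P.two hv)
  have hneg : Units.map (Int.castRingHom F).toMonoidHom (-1 : ℤˣ) = (-1 : Fˣ) :=
    Units.ext (by simp)
  have hsq : IsSquare (2 * c) ↔ ¬ IsSquare c := by
    have hchar : ringChar F ≠ 2 := fun hc => P.two (by
      haveI := ringChar.charP F
      have := CharP.cast_eq_zero F (ringChar F)
      rw [hc] at this
      exact_mod_cast this)
    rw [← quadraticChar_one_iff_isSquare P.ne,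
      ← quadraticChar_one_iff_isSquare (mul_ne_zero P.two P.ne), map_mul,
      quadraticChar_neg_one_iff_not_isSquare.mpr hns]
    rcases quadraticChar_dichotomy P.ne with h | h <;> simp [h]
  have hperm : ∃ g : ↥(isometryGroup F Q), Mono b σ 1 (g : GL ι F) ∧
      detSpin Q g = (Units.map (Int.castRingHom F).toMonoidHom (Equiv.Perm.sign σ),
        spinVal c σ 1) := by
    induction σ using Equiv.Perm.swap_induction_on with
    | one => exact ⟨1, mono_one, by simp [spinVal]; rfl⟩
    | swap_mul σ x y hxy ih =>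
      obtain ⟨g, hg, hd⟩ := ih
      have hv : Q (b x - b y) ≠ 0 := by rw [P.norm_sub hxy]; exact mul_ne_zero P.two P.ne
      refine ⟨rI P.space _ hv * g, ?_, ?_⟩
      · intro i
        have := (P.refl_swap hxy).mul hg i
        simpa using this
      · rw [map_mul, hd, hdet, Equiv.Perm.sign_mul, Equiv.Perm.sign_swap hxy, map_mul, hneg,
          Prod.mk_mul_mk, P.norm_sub hxy]
        refine Prod.ext rfl ?_
        by_cases hc : IsSquare c
        · simp [spinVal, hc, hsq]
        · simp [spinVal, hc, hsq, Equiv.Perm.sign_swap hxy]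
  obtain ⟨g0, hg0, hd0⟩ := hperm
  suffices key : ∀ s : Finset (Fin 7), ∃ g : ↥(isometryGroup F Q),
      Mono b σ (fun i => if i ∈ s then -1 else 1) (g : GL ι F) ∧
      detSpin Q g = (Units.map (Int.castRingHom F).toMonoidHom
        (Equiv.Perm.sign σ * ∏ i, if i ∈ s then (-1 : ℤˣ) else 1),
        spinVal c σ fun i => if i ∈ s then -1 else 1) by
    have he : (fun i => if i ∈ (Finset.univ.filter fun i => ε i = -1) then (-1 : ℤˣ) else 1) = ε := by
      funext i
      rcases Int.units_eq_one_or (ε i) with h | h <;> simp [h]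
    obtain ⟨g, hg, hd⟩ := key (Finset.univ.filter fun i => ε i = -1)
    refine ⟨g, he ▸ hg, ?_⟩
    rw [hd, he]
  intro s
  induction s using Finset.induction with
  | empty =>
    refine ⟨g0, hg0, ?_⟩
    rw [hd0]
    simp [Pi.one_def]
  | insert a s has ih =>
    obtain ⟨g, hg, hd⟩ := ih
    refine ⟨rI P.space (b (σ a)) (P.ne_zero _) * g, fun i => ?_, ?_⟩
    · refine ((P.refl_flip (σ a)).mul hg i).trans ?_
      rw [one_mul]
      congr 2
      by_cases hia : i = a
      · subst hia; simp [has]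
      · simp [hia]
    · rw [map_mul, hd, hdet, Prod.mk_mul_mk, P.norm]
      have hprod : (∏ i, if i ∈ insert a s then (-1 : ℤˣ) else 1) =
          -1 * ∏ i, if i ∈ s then (-1 : ℤˣ) else 1 := by
        rw [Finset.prod_ite_mem, Finset.prod_ite_mem, Finset.univ_inter, Finset.univ_inter,
          Finset.prod_insert has]
      refine Prod.ext ?_ ?_
      · dsimp only
        rw [hprod, mul_left_comm _ (-1 : ℤˣ)]; simp only [map_mul]; rw [hneg]
      · by_cases hc : IsSquare c
        · simp only [spinVal, if_pos hc, hprod]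
        · simp only [spinVal, if_neg hc, one_mul]

/-- A signed permutation of the frame lies in `Ω` exactly when both signs are trivial. -/
theorem Frame.mono_mem_omega_iff (P : Frame Q B b c) (hns : ¬ IsSquare (2 : F))
    {σ : Equiv.Perm (Fin 7)} {ε : Fin 7 → ℤˣ} {g : ↥(isometryGroup F Q)}
    (hg : Mono b σ ε (g : GL ι F)) :
    g ∈ Omega F Q ↔ Equiv.Perm.sign σ = 1 ∧ ∏ i, ε i = 1 := by
  obtain ⟨h, hh, hd⟩ := P.exists_mono hns σ ε
  have hgh : g = h := Subtype.ext (P.mono_ext hg hh)
  have hmem : g ∈ Omega F Q ↔ detSpin Q g = 1 := by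
    show g ∈ commutator _ ↔ _
    rw [(omega_odd P.space P.two (by rw [P.card]; omega)).1, MonoidHom.mem_ker]
  rw [hmem, hgh, hd]
  have hinj : ∀ u : ℤˣ, Units.map (Int.castRingHom F).toMonoidHom u = 1 → u = 1 := fun u hu =>
    sc_inj (F := F) P.two (by simpa [sc] using congrArg Units.val hu)
  constructor
  · intro h1
    have h3 := hinj _ (congrArg Prod.fst h1)
    have h4 : spinVal c σ ε = 1 := congrArg Prod.snd h1
    rw [spinVal] at h4
    split_ifs at h4 <;> rw [h4] at h3 <;> simp_all
  · rintro ⟨h1, h2⟩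
    refine Prod.ext ?_ ?_
    · simp [h1, h2]
    · simp [spinVal, h1, h2]

theorem Frame.exists_mono_omega (P : Frame Q B b c) (hns : ¬ IsSquare (2 : F))
    {σ : Equiv.Perm (Fin 7)} {ε : Fin 7 → ℤˣ} (hs : Equiv.Perm.sign σ = 1) (he : ∏ i, ε i = 1) :
    ∃ x : ↥(Omega F Q), Mono b σ ε ((x : ↥(isometryGroup F Q)) : GL ι F) := by
  obtain ⟨g, hg, -⟩ := P.exists_mono hns σ ε
  exact ⟨⟨g, (P.mono_mem_omega_iff hns hg).2 ⟨hs, he⟩⟩, hg⟩

/-- Signed permutation matrices in `Ω` are even in both signs. -/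
theorem Frame.even_of_mono (P : Frame Q B b c) (hns : ¬ IsSquare (2 : F))
    {σ : Equiv.Perm (Fin 7)} {ε : Fin 7 → ℤˣ} {x : ↥(Omega F Q)}
    (hx : Mono b σ ε ((x : ↥(isometryGroup F Q)) : GL ι F)) :
    Equiv.Perm.sign σ = 1 ∧ ∏ i, ε i = 1 :=
  (P.mono_mem_omega_iff hns hx).1 x.2

/-- An isometry may be corrected into `Ω` by the reflections in `b a` and `b a + b a'`. -/
theorem Frame.exists_correction (P : Frame Q B b c) (hns : ¬ IsSquare (2 : F)) {a a' : Fin 7}
    (h : a ≠ a') (g : ↥(isometryGroup F Q)) :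
    ∃ r : ↥(isometryGroup F Q), g * r ∈ Omega F Q ∧
      ∀ e : ↥(isometryGroup F Q), (e : GL ι F).val *ᵥ b a = b a →
        (e : GL ι F).val *ᵥ b a' = b a' → Commute e r := by
  classical
  have hsum : Q (b a + b a') = 2 * c := by
    rw [P.space.add, P.norm, P.norm, P.orth a a' h]; ring
  have hv : Q (b a + b a') ≠ 0 := by rw [hsum]; exact mul_ne_zero P.two P.ne
  have hchar : ringChar F ≠ 2 := fun hc => P.two (by
    haveI := ringChar.charP F
    have := CharP.cast_eq_zero F (ringChar F)
    rw [hc] at this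
    exact_mod_cast this)
  have hsq : IsSquare (2 * c) ↔ ¬ IsSquare c := by
    rw [← quadraticChar_one_iff_isSquare P.ne,
      ← quadraticChar_one_iff_isSquare (mul_ne_zero P.two P.ne), map_mul,
      quadraticChar_neg_one_iff_not_isSquare.mpr hns]
    rcases quadraticChar_dichotomy P.ne with h | h <;> simp [h]
  set r1 := rI P.space (b a) (P.ne_zero a) with hr1
  set r2 := rI P.space (b a + b a') hv with hr2
  have e1 : detSpin Q r1 = (-1, if IsSquare c then (-1 : ℤˣ) else 1) :=
    Prod.ext (det_rI P.space (P.ne_zero a)) (by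
      show spin Q r1 = _
      rw [hr1, spin_rI P.space P.two (P.ne_zero a)]
      rw [P.norm])
  have e2 : detSpin Q r2 = (-1, if IsSquare c then (1 : ℤˣ) else -1) :=
    Prod.ext (det_rI P.space hv) (by
      refine (spin_rI P.space P.two hv).trans ?_
      rw [hsum]
      by_cases hc : IsSquare c <;> simp [hsq, hc])
  have hcm : ∀ (v : ι → F) (hv : Q v ≠ 0) (e : ↥(isometryGroup F Q)),
      (e : GL ι F).val *ᵥ v = v → Commute e (rI P.space v hv) := fun v hv e hev => by
    have h1 := rGL_conj P.space hv e.2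
    rw [hev] at h1
    refine Subtype.ext ?_
    exact mul_inv_eq_iff_eq_mul.mp h1
  have fix1 : ∀ e : ↥(isometryGroup F Q), (e : GL ι F).val *ᵥ b a = b a →
      (e : GL ι F).val *ᵥ b a' = b a' → Commute e r1 := fun e h1 _ => hcm _ _ e h1
  have fix2 : ∀ e : ↥(isometryGroup F Q), (e : GL ι F).val *ᵥ b a = b a →
      (e : GL ι F).val *ᵥ b a' = b a' → Commute e r2 := fun e h1 h1' => hcm _ hv e (by
    rw [Matrix.mulVec_add, h1, h1'])
  have fix12 : ∀ e : ↥(isometryGroup F Q), (e : GL ι F).val *ᵥ b a = b a →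
      (e : GL ι F).val *ᵥ b a' = b a' → Commute e (r1 * r2) := fun e h1 h1' =>
    (fix1 e h1 h1').mul_right (fix2 e h1 h1')
  obtain ⟨u, hu⟩ : ∃ u, detSpin Q g = (u, (detSpin Q g).2) := ⟨_, rfl⟩
  have hu2 : u = 1 ∨ u = -1 := by
    rcases det_sq P.space g.2 with hd | hd
    · left; exact Units.ext (by rw [show u = (detSpin Q g).1 from (congrArg Prod.fst hu).symm]; exact hd)
    · right; exact Units.ext (by rw [show u = (detSpin Q g).1 from (congrArg Prod.fst hu).symm]; exact hd)
  have hmem : ∀ r, detSpin Q g * detSpin Q r = 1 → g * r ∈ Omega F Q := fun r hr => by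
    show g * r ∈ commutator _
    rw [(omega_odd P.space P.two (by rw [P.card]; omega)).1, MonoidHom.mem_ker, map_mul, hr]
  by_cases hc : IsSquare c <;> rcases hu2 with rfl | rfl <;>
    rcases Int.units_eq_one_or (detSpin Q g).2 with hs | hs <;> rw [hs] at hu
  all_goals first
    | (refine ⟨1, hmem 1 ?_, fun e _ _ => Commute.one_right e⟩; rw [hu, map_one]; simp; done)
    | (refine ⟨r1, hmem r1 ?_, fix1⟩; rw [hu, e1]; simp [hc]; done)
    | (refine ⟨r2, hmem r2 ?_, fix2⟩; rw [hu, e2]; simp [hc]; done)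
    | (refine ⟨r1 * r2, hmem _ ?_, fix12⟩; rw [hu, map_mul, e1, e2]; simp [hc]; done)

end Cfsg.Lib.Linear.OmegaSeven
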