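import Mathlib

/-!
# The Sylow 2-subgroup of the alternating group of degree seven, and even sign vectors

Finite combinatorics used for the Sylow 2-subgroups of `Ω₇(q)`, `q ≡ ±3 (mod 8)`.
-/

set_option autoImplicit false
set_option maxRecDepth 100000

namespace Cfsg.Lib.Linear.OmegaSeven

open Equiv

attribute [local instance 10000] Finset.decidableDforallFinset List.decidableBAll

/-- A permutation of seven points given by tables. -/
def mk7 (f g : Fin 7 → Fin 7) (h : ∀ i, g (f i) = i ∧ f (g i) = i) : Perm (Fin 7) :=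
  ⟨f, g, fun i => (h i).1, fun i => (h i).2⟩

/-- First generating involution. -/
def tP : Perm (Fin 7) := mk7 ![2, 1, 0, 3, 5, 4, 6] ![2, 1, 0, 3, 5, 4, 6] (by decide)

/-- Second generating involution. -/
def uP : Perm (Fin 7) := mk7 ![3, 2, 1, 0, 4, 5, 6] ![3, 2, 1, 0, 4, 5, 6] (by decide)

/-- The central involution. -/
def zP : Perm (Fin 7) := mk7 ![2, 3, 0, 1, 4, 5, 6] ![2, 3, 0, 1, 4, 5, 6] (by decide)

/-- The eight elements of the dihedral group, as a list. -/
def dList : List (Perm (Fin 7)) :=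
  [mk7 ![0, 1, 2, 3, 4, 5, 6] ![0, 1, 2, 3, 4, 5, 6] (by decide), tP, uP, zP,
    mk7 ![3, 0, 1, 2, 5, 4, 6] ![1, 2, 3, 0, 5, 4, 6] (by decide), mk7 ![1, 2, 3, 0, 5, 4, 6] ![3, 0, 1, 2, 5, 4, 6] (by decide),
    mk7 ![1, 0, 3, 2, 4, 5, 6] ![1, 0, 3, 2, 4, 5, 6] (by decide), mk7 ![0, 3, 2, 1, 5, 4, 6] ![0, 3, 2, 1, 5, 4, 6] (by decide)]

/-- The eight elements of the dihedral group. -/
def dSet : Finset (Perm (Fin 7)) := dList.toFinset

theorem tP_eq : tP = swap 0 2 * swap 4 5 := by decide +kernel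

theorem uP_eq : uP = swap 0 3 * swap 1 2 := by decide +kernel

theorem dList_words : dList =
    [1, tP, uP, tP * uP * tP * uP, tP * uP, uP * tP, tP * uP * tP, uP * tP * uP] := by
  decide +kernel

/-- The sign vectors with an even number of entries `-1`. -/
def evens : Finset (Fin 7 → ℤˣ) := Finset.univ.filter fun e => ∏ i, e i = 1

/-- The sign vector with entries `-1` at `i` and `j`. -/
def pairFlip (i j : Fin 7) : Fin 7 → ℤˣ := fun k => if k = i ∨ k = j then -1 else 1

theorem one_mem_dSet : (1 : Perm (Fin 7)) ∈ dSet := by decide +kernel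

theorem tP_mem : tP ∈ dSet := by decide +kernel

theorem uP_mem : uP ∈ dSet := by decide +kernel

theorem mul_mem_dSet : ∀ x ∈ dSet, ∀ y ∈ dSet, x * y ∈ dSet := by decide +kernel

theorem card_dSet : dSet.card = 8 := by decide +kernel

theorem inv_mem_dSet {x : Perm (Fin 7)} (hx : x ∈ dSet) : x⁻¹ ∈ dSet := by
  have h : ∀ x ∈ dSet, ∃ y ∈ dSet, x * y = 1 := by decide +kernel
  obtain ⟨y, hy, hxy⟩ := h x hx
  rwa [inv_eq_of_mul_eq_one_right hxy]

theorem sign_tP : Perm.sign tP = 1 := by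
  rw [tP_eq, map_mul, Perm.sign_swap (by decide), Perm.sign_swap (by decide)]; simp

theorem sign_uP : Perm.sign uP = 1 := by
  rw [uP_eq, map_mul, Perm.sign_swap (by decide), Perm.sign_swap (by decide)]; simp

theorem sign_dSet {x : Perm (Fin 7)} (hx : x ∈ dSet) : Perm.sign x = 1 := by
  simp only [dSet, dList_words, List.mem_toFinset, List.mem_cons, List.not_mem_nil, or_false] at hx
  rcases hx with rfl | rfl | rfl | rfl | rfl | rfl | rfl | rfl <;>
    simp [sign_tP, sign_uP]

theorem card_fix_le_sixteen : ∀ x ∈ dSet, x ≠ 1 →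
    (evens.filter fun e : Fin 7 → ℤˣ => e ∘ ⇑x = e).card ≤ 16 := by decide +kernel

set_option synthInstance.maxSize 2000 in
set_option synthInstance.maxHeartbeats 200000 in
theorem card_fix_le_eight : ∀ x ∈ dSet, ∀ y ∈ dSet, x * x = 1 → y * y = 1 → x ≠ 1 → y ≠ 1 → x ≠ y →
    x * y = y * x →
    (evens.filter fun e : Fin 7 → ℤˣ => e ∘ ⇑x = e ∧ e ∘ ⇑y = e).card ≤ 8 := by decide +kernel

theorem card_le_four {R : Finset (Perm (Fin 7))} (hR : R ⊆ dSet)
    (hc : ∀ x ∈ R, ∀ y ∈ R, x * y = y * x) (h2 : ∀ x ∈ R, x * x = 1) : R.card ≤ 4 := by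
  have key : ∀ s ∈ (dSet.filter fun x => x * x = 1).powerset,
      (∀ x ∈ s, ∀ y ∈ s, x * y = y * x) → s.card ≤ 4 := by decide +kernel
  exact key R (Finset.mem_powerset.2 fun x hx => Finset.mem_filter.2 ⟨hR hx, h2 x hx⟩) hc

theorem card_evens : evens.card = 64 := by decide +kernel

theorem prod_pairFlip {i j : Fin 7} (h : i ≠ j) : ∏ k, pairFlip i j k = 1 := by
  revert i j
  decide +kernel

theorem pairFlip_comm (i j : Fin 7) : pairFlip i j = pairFlip j i := by
  funext k
  simp only [pairFlip, or_comm]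

theorem eq_prod_pairFlip : ∀ e ∈ evens,
    e = ∏ i, if e i = -1 ∧ i ≠ 6 then pairFlip i 6 else 1 := by decide +kernel

theorem pairFlip_comp (σ : Perm (Fin 7)) (i j : Fin 7) :
    pairFlip i j ∘ ⇑σ = pairFlip (σ.symm i) (σ.symm j) := by
  funext k
  simp only [pairFlip, Function.comp_apply, Equiv.eq_symm_apply]

theorem exists_other : ∀ i j : Fin 7, ∃ k l : Fin 7, k ≠ l ∧ k ≠ i ∧ k ≠ j ∧ l ≠ i ∧ l ≠ j := by
  decide +kernel

/-- The even permutations are doubly transitive. -/
theorem exists_even_map {a b c d : Fin 7} (hab : a ≠ b) (hcd : c ≠ d) :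
    ∃ σ : Perm (Fin 7), Perm.sign σ = 1 ∧ σ a = c ∧ σ b = d := by
  set σ₁ := swap a c with h1
  set σ : Perm (Fin 7) := swap (σ₁ b) d * σ₁ with hσ
  have hb : σ₁ b ≠ c := fun h => hab (σ₁.injective ((swap_apply_left a c).trans h.symm))
  have ea : σ a = c := by
    rw [hσ, Perm.mul_apply, h1, swap_apply_left, swap_apply_of_ne_of_ne hb.symm hcd]
  have eb : σ b = d := by rw [hσ, Perm.mul_apply, swap_apply_left]
  rcases Int.units_eq_one_or (Perm.sign σ) with hs | hs
  · exact ⟨σ, hs, ea, eb⟩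
  · obtain ⟨k, l, hkl, h1, h2, h3, h4⟩ := exists_other c d
    refine ⟨swap k l * σ, by rw [map_mul, hs, Perm.sign_swap hkl]; simp, ?_, ?_⟩
    · rw [Perm.mul_apply, ea, swap_apply_of_ne_of_ne h1.symm h3.symm]
    · rw [Perm.mul_apply, eb, swap_apply_of_ne_of_ne h2.symm h4.symm]

/-- A non-trivial even sign vector times a suitable conjugate has exactly two entries `-1`. -/
theorem exists_weight_two {e : Fin 7 → ℤˣ} (he : ∏ i, e i = 1) (h1 : e ≠ 1) :
    ∃ σ : Perm (Fin 7), Perm.sign σ = 1 ∧ ∃ a b : Fin 7, a ≠ b ∧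
      e * (e ∘ ⇑σ) = pairFlip a b := by
  obtain ⟨i, hi⟩ : ∃ i, e i = -1 := by
    by_contra h
    push Not at h
    exact h1 (funext fun i => (Int.units_eq_one_or (e i)).resolve_right (h i))
  obtain ⟨j, hj⟩ : ∃ j, e j = 1 := by
    by_contra h
    push Not at h
    have hall : ∀ j, e j = -1 := fun j => (Int.units_eq_one_or (e j)).resolve_left (h j)
    simp only [hall] at he
    revert he
    decide +kernel
  have hij : i ≠ j := fun h => by rw [h, hj] at hi; exact absurd hi (by decide)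
  obtain ⟨k, -, -, hk1, hk2, -, -⟩ := exists_other i j
  have hsign : Perm.sign (swap i j * swap j k) = 1 := by
    rw [map_mul, Perm.sign_swap hij, Perm.sign_swap hk2.symm]; simp
  set σ : Perm (Fin 7) := swap i j * swap j k with hσ
  have si : σ i = j := by
    rw [hσ, Perm.mul_apply, swap_apply_of_ne_of_ne hij hk1.symm, swap_apply_left]
  have sj : σ j = k := by
    rw [hσ, Perm.mul_apply, swap_apply_left, swap_apply_of_ne_of_ne hk1 hk2]
  have sk : σ k = i := by rw [hσ, Perm.mul_apply, swap_apply_right, swap_apply_right]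
  have so : ∀ x, x ≠ i → x ≠ j → x ≠ k → σ x = x := fun x a b c => by
    rw [hσ, Perm.mul_apply, swap_apply_of_ne_of_ne b c, swap_apply_of_ne_of_ne a b]
  refine ⟨σ, hsign, ?_⟩
  rcases Int.units_eq_one_or (e k) with hk | hk
  · refine ⟨i, k, hk1.symm, funext fun x => ?_⟩
    simp only [Pi.mul_apply, Function.comp_apply, pairFlip]
    by_cases hxi : x = i
    · subst hxi; simp [si, hi, hj]
    by_cases hxk : x = k
    · subst hxk; simp [sk, hi, hk]
    by_cases hxj : x = j
    · subst hxj; simp [sj, hk, hj, hij.symm, hk2.symm]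
    simp [so x hxi hxj hxk, hxi, hxk, Int.units_mul_self]
  · refine ⟨i, j, hij, funext fun x => ?_⟩
    simp only [Pi.mul_apply, Function.comp_apply, pairFlip]
    by_cases hxi : x = i
    · subst hxi; simp [si, hi, hj]
    by_cases hxj : x = j
    · subst hxj; simp [sj, hk, hj]
    by_cases hxk : x = k
    · subst hxk; simp [sk, hi, hk, hk1, hk2]
    simp [so x hxi hxj hxk, hxi, hxj, Int.units_mul_self]

theorem zP_central : ∀ x ∈ dSet, x * zP = zP * x := by decide +kernel

theorem eq_zP : ∀ c ∈ dSet, (∀ x ∈ dSet, x * c = c * x) → c ≠ 1 → c = zP := by decide +kernel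

theorem fix_six : ∀ x ∈ dSet, x 6 = 6 := by decide +kernel

theorem exists_images : ∀ x y : Fin 7, zP x ≠ x → zP y ≠ y → y ≠ x → y ≠ zP x →
    ∃ d ∈ dSet, d 0 = x ∧ d 1 = y := by decide +kernel

/-- The dihedral group is its own normalizer in the alternating group. -/
theorem mem_dSet_of_normalizes {σ : Perm (Fin 7)} (hs : Perm.sign σ = 1)
    (h : ∀ x ∈ dSet, σ * x * σ⁻¹ ∈ dSet) : σ ∈ dSet := by
  classical
  have himg : dSet.image (fun x => σ * x * σ⁻¹) = dSet :=
    Finset.eq_of_subset_of_card_le (fun y hy => by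
      obtain ⟨x, hx, rfl⟩ := Finset.mem_image.1 hy
      exact h x hx)
      (by rw [Finset.card_image_of_injective _ fun a b hab => by simpa using hab])
  have hsur : ∀ y ∈ dSet, ∃ x ∈ dSet, σ * x * σ⁻¹ = y := fun y hy =>
    Finset.mem_image.1 (himg.symm ▸ hy)
  have h6 : σ 6 = 6 := by
    have hfix : ∀ i : Fin 7, tP i = i → uP i = i → i = 6 := by decide +kernel
    have hx : ∀ y ∈ dSet, y (σ 6) = σ 6 := fun y hy => by
      obtain ⟨x, hx, rfl⟩ := hsur y hy
      simp [fix_six x hx]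
    exact hfix _ (hx _ tP_mem) (hx _ uP_mem)
  have hzmem : zP ∈ dSet := by decide +kernel
  have hz : σ * zP * σ⁻¹ = zP := by
    refine eq_zP _ (h _ hzmem) (fun y hy => ?_) ?_
    · obtain ⟨x, hx, rfl⟩ := hsur y hy
      rw [show σ * x * σ⁻¹ * (σ * zP * σ⁻¹) = σ * (x * zP) * σ⁻¹ by group, zP_central x hx]
      group
    · rw [Ne, conj_eq_one_iff]
      decide +kernel
  have hcomm : ∀ i, σ (zP i) = zP (σ i) := fun i => by
    have := congrArg (fun p : Perm (Fin 7) => p (σ i)) hz
    simpa using this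
  have hzz : zP * zP = 1 := by decide +kernel
  obtain ⟨d, hd, d0, d1⟩ := exists_images (σ 0) (σ 1)
    (by rw [← hcomm, σ.injective.ne_iff]; decide +kernel)
    (by rw [← hcomm, σ.injective.ne_iff]; decide +kernel)
    (σ.injective.ne (by decide)) (by rw [← hcomm, σ.injective.ne_iff]; decide +kernel)
  set ρ := d⁻¹ * σ with hρ
  have hσρ : σ = d * ρ := by rw [hρ, mul_inv_cancel_left]
  have r0 : ρ 0 = 0 := by rw [hρ, Perm.mul_apply, ← d0]; simp
  have r1 : ρ 1 = 1 := by rw [hρ, Perm.mul_apply, ← d1]; simp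
  have r6 : ρ 6 = 6 := by
    rw [hρ, Perm.mul_apply, h6]
    exact fix_six _ (inv_mem_dSet hd)
  have hdz : ∀ i, d⁻¹ (zP i) = zP (d⁻¹ i) := fun i => by
    have := congrArg (fun p : Perm (Fin 7) => p i) (zP_central _ (inv_mem_dSet hd))
    simpa using this
  have rz : ∀ i, ρ (zP i) = zP (ρ i) := fun i => by
    rw [hρ, Perm.mul_apply, hcomm, hdz, Perm.mul_apply]
  have r2 : ρ 2 = 2 := by
    have := rz 0
    rw [r0] at this
    simpa [show zP 0 = 2 by decide +kernel] using this
  have r3 : ρ 3 = 3 := by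
    have := rz 1
    rw [r1] at this
    simpa [show zP 1 = 3 by decide +kernel] using this
  have h45 : ∀ x : Fin 7, x = 0 ∨ x = 1 ∨ x = 2 ∨ x = 3 ∨ x = 4 ∨ x = 5 ∨ x = 6 := by decide
  have hout : ∀ i : Fin 7, (i = 4 ∨ i = 5) → (ρ i = 4 ∨ ρ i = 5) := by
    intro i hi
    have hne : ∀ j, ρ j = j → i ≠ j → ρ i ≠ j := fun j hj hij => by
      rw [← hj]; exact ρ.injective.ne hij
    rcases h45 (ρ i) with e | e | e | e | e | e | e
    all_goals first
      | exact Or.inl e
      | exact Or.inr e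
      | (exfalso; revert e; apply hne <;> first | assumption | (rcases hi with rfl | rfl <;> decide))
  have hsplit : ρ = 1 ∨ ρ = swap 4 5 := by
    rcases hout 4 (Or.inl rfl) with e4 | e4 <;> rcases hout 5 (Or.inr rfl) with e5 | e5
    · exact absurd (ρ.injective (e4.trans e5.symm)) (by decide)
    · left; ext x : 1
      rcases h45 x with rfl | rfl | rfl | rfl | rfl | rfl | rfl <;> simp [r0, r1, r2, r3, e4, e5, r6]
    · right; ext x : 1
      rcases h45 x with rfl | rfl | rfl | rfl | rfl | rfl | rfl <;>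
        simp [r0, r1, r2, r3, e4, e5, r6, swap_apply_of_ne_of_ne]
    · exact absurd (ρ.injective (e4.trans e5.symm)) (by decide)
  rcases hsplit with e | e
  · rw [hσρ, e, mul_one]; exact hd
  · exfalso
    rw [hσρ, e, map_mul, sign_dSet hd, Perm.sign_swap (by decide)] at hs
    exact absurd hs (by decide)

end Cfsg.Lib.Linear.OmegaSeven
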