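import Cfsg.Agent.Lib.Linear.OmegaSeven.Perms
import Cfsg.Agent.Lib.Linear.OmegaSeven.Mono
import Cfsg.Agent.Lib.FusionSys.SimpleTwo
import Cfsg.Agent.Lib.PGroup.Basic

/-!
# The monomial Sylow 2-subgroup of `Ω` in dimension seven

With `2` a non-square, the signed permutations of a frame in a dihedral group of order eight form
a self-normalizing subgroup of order `512` whose fusion controls all of it.
-/

set_option autoImplicit false

namespace Cfsg.Lib.Linear.OmegaSeven

open Module Cfsg.Lib.Linear.Orth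
open scoped Matrix

variable {ι : Type} [Fintype ι] [DecidableEq ι] {F : Type*} [Field F]
  {Q : (ι → F) → F} {B : LinearMap.BilinForm F (ι → F)} {b : Fin 7 → ι → F} {c : F}

/-- The underlying element of `GL` of an element of `Ω`. -/
abbrev gl (x : ↥(Omega F Q)) : GL ι F := ((x : ↥(isometryGroup F Q)) : GL ι F)

/-- The monomial 2-subgroup of `Ω` of a frame. -/
def monoSylow (b : Fin 7 → ι → F) : Subgroup ↥(Omega F Q) where
  carrier := {x | ∃ σ ∈ dSet, ∃ ε, Mono b σ ε (gl x)}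
  one_mem' := ⟨1, one_mem_dSet, 1, mono_one⟩
  mul_mem' := by
    rintro x y ⟨σ, hσ, ε, hx⟩ ⟨τ, hτ, η, hy⟩
    exact ⟨σ * τ, mul_mem_dSet σ hσ τ hτ, _, hx.mul hy⟩
  inv_mem' := by
    rintro x ⟨σ, hσ, ε, hx⟩
    exact ⟨σ⁻¹, inv_mem_dSet hσ, _, hx.inv⟩

/-- The diagonal elements of `Ω` in a frame. -/
def diagSub (b : Fin 7 → ι → F) : Subgroup ↥(Omega F Q) where
  carrier := {x | ∃ ε, Mono b 1 ε (gl x)}
  one_mem' := ⟨1, mono_one⟩
  mul_mem' := by
    rintro x y ⟨ε, hx⟩ ⟨η, hy⟩
    have h := hx.mul hy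
    rw [one_mul] at h
    exact ⟨_, h⟩
  inv_mem' := by
    rintro x ⟨ε, hx⟩
    have h := hx.inv
    rw [inv_one] at h
    exact ⟨_, h⟩

theorem diagSub_le : diagSub (Q := Q) b ≤ monoSylow b := fun _ ⟨ε, hx⟩ =>
  ⟨1, one_mem_dSet, ε, hx⟩

theorem gl_conj {x : ↥(Omega F Q)} {σ τ : Equiv.Perm (Fin 7)} {ε η : Fin 7 → ℤˣ}
    {g : ↥(Omega F Q)} (hg : Mono b σ ε (gl g)) (hx : Mono b τ η (gl x)) :
    Mono b (σ * τ * σ⁻¹) (fun i => ε (σ⁻¹ i) * (η (σ⁻¹ i) * ε (τ (σ⁻¹ i))))
      (gl (g * x * g⁻¹)) :=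
  (hg.mul hx).mul hg.inv

variable [Fintype F] (P : Frame Q B b c) (hns : ¬ IsSquare (2 : F))

include P hns

theorem mul_diag_comm {x y : ↥(Omega F Q)} (hx : x ∈ diagSub b) (hy : y ∈ diagSub b) :
    x * y = y * x := by
  obtain ⟨ε, hx⟩ := hx
  obtain ⟨η, hy⟩ := hy
  refine Subtype.ext (Subtype.ext (P.mono_ext (hx.mul hy) ?_))
  have h := hy.mul hx
  simpa [mul_comm] using h

theorem card_diagSub : Nat.card (diagSub (Q := Q) b) = 64 := by
  classical
  rw [show (64 : ℕ) = Nat.card evens by rw [Nat.card_eq_finsetCard, card_evens]]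
  have hev : ∀ e, e ∈ evens ↔ ∏ i, e i = 1 := fun e => by simp [evens]
  refine (Nat.card_eq_of_bijective (fun e : evens =>
    (⟨(P.exists_mono_omega hns (σ := 1) (by simp) ((hev e).1 e.2)).choose,
      e, (P.exists_mono_omega hns (σ := 1) (by simp) ((hev e).1 e.2)).choose_spec⟩ :
        diagSub (Q := Q) b)) ⟨fun e f h => ?_, fun x => ?_⟩).symm
  · have he := (P.exists_mono_omega hns (σ := 1) (by simp) ((hev e).1 e.2)).choose_spec
    have hf := (P.exists_mono_omega hns (σ := 1) (by simp) ((hev f).1 f.2)).choose_spec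
    rw [show (P.exists_mono_omega hns (σ := 1) (by simp) ((hev e).1 e.2)).choose =
      (P.exists_mono_omega hns (σ := 1) (by simp) ((hev f).1 f.2)).choose from
        congrArg Subtype.val h] at he
    exact Subtype.ext (P.mono_unique he hf).2
  · obtain ⟨x, ε, hx⟩ := x
    have he := (P.even_of_mono hns hx).2
    refine ⟨⟨ε, (hev ε).2 he⟩, Subtype.ext (Subtype.ext (Subtype.ext (P.mono_ext ?_ hx)))⟩
    exact (P.exists_mono_omega hns (σ := 1) (by simp) he).choose_spec

theorem card_monoSylow : Nat.card (monoSylow (Q := Q) b) = 512 := by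
  classical
  let f : monoSylow (Q := Q) b → dSet := fun x => ⟨x.2.choose, x.2.choose_spec.1⟩
  have hf : ∀ (x : monoSylow (Q := Q) b) σ ε, Mono b σ ε (gl x.1) → (f x).1 = σ := fun x σ ε h =>
    (P.mono_unique x.2.choose_spec.2.choose_spec h).1
  have hsur : Function.Surjective f := fun d => by
    obtain ⟨x, hx⟩ := P.exists_mono_omega hns (sign_dSet d.2) (ε := 1) (by simp)
    exact ⟨⟨x, d.1, d.2, 1, hx⟩, Subtype.ext (hf _ _ _ hx)⟩
  have hfib : ∀ d : dSet, Nat.card {x // f x = d} = 64 := fun d => by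
    obtain ⟨y, hy⟩ := hsur d
    have hy' : ∃ ε, Mono b d.1 ε (gl y.1) := by
      obtain ⟨σ, hσ, ε, he⟩ := y.2
      exact ⟨ε, by rw [← hy, hf y σ ε he]; exact he⟩
    obtain ⟨η, hη⟩ := hy'
    rw [← card_diagSub P hns]
    refine Nat.card_congr
      { toFun := fun x => ⟨y.1⁻¹ * x.1.1, ?_⟩
        invFun := fun e => ⟨⟨y.1 * e.1, mul_mem y.2 (diagSub_le e.2)⟩, ?_⟩
        left_inv := fun x => Subtype.ext (Subtype.ext (mul_inv_cancel_left _ _))
        right_inv := fun e => Subtype.ext (inv_mul_cancel_left _ _) }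
    · obtain ⟨σ, hσ, ε, he⟩ := x.1.2
      have hσd : σ = d.1 := (hf x.1 σ ε he).symm.trans (congrArg Subtype.val x.2)
      have := hη.inv.mul (hσd ▸ he)
      rw [inv_mul_cancel] at this
      exact ⟨_, this⟩
    · obtain ⟨ε, he⟩ := e.2
      have := hη.mul he
      rw [mul_one] at this
      exact Subtype.ext (hf _ _ _ this)
  rw [← Nat.card_congr (Equiv.sigmaFiberEquiv f), Nat.card_sigma, Finset.sum_congr rfl
    fun d _ => hfib d, Finset.sum_const, Finset.card_univ, Fintype.card_coe, card_dSet]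
  rfl

set_option maxHeartbeats 2000000 in
/-- The diagonal subgroup is the only elementary abelian subgroup of order `64`. -/
theorem le_diagSub {A : Subgroup ↥(Omega F Q)} (hA : A ≤ monoSylow b)
    (hc : ∀ x ∈ A, ∀ y ∈ A, x * y = y * x) (h2 : ∀ x ∈ A, x * x = 1) (hcard : Nat.card A = 64) :
    A ≤ diagSub b := by
  classical
  have hA' : ∀ x : A, ∃ σ ∈ dSet, ∃ ε, Mono b σ ε (gl x.1) := fun x => hA x.2
  choose σ hσ ε hε using hA'
  let π : A →* Equiv.Perm (Fin 7) :=
    { toFun := σ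
      map_one' := (P.mono_unique (hε 1) mono_one).1
      map_mul' := fun x y => (P.mono_unique (hε (x * y)) ((hε x).mul (hε y))).1 }
  intro x hx
  by_contra hne
  set R : Finset (Equiv.Perm (Fin 7)) := Finset.univ.image (π : A → Equiv.Perm (Fin 7)) with hR
  have hRc : Nat.card π.range = R.card := by
    rw [← Nat.card_eq_finsetCard]
    refine Nat.card_congr (Equiv.subtypeEquivRight fun p => ?_)
    simp [hR]
  have hfix : ∀ (k : π.ker) (y : A), ε k.1 ∈ evens ∧ ε k.1 ∘ ⇑(σ y) = ε k.1 := fun k y => by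
    have hk : σ k.1 = 1 := k.2
    refine ⟨by simp [evens, (P.even_of_mono hns (hε k.1)).2], funext fun i => ?_⟩
    have h1 := (hε k.1).mul (hε y)
    have h2 := (hε y).mul (hε k.1)
    have e : gl k.1.1 * gl y.1 = gl y.1 * gl k.1.1 :=
      congrArg gl (hc _ k.1.2 _ y.2)
    rw [e] at h1
    have h3 := congrFun (P.mono_unique h1 h2).2 i
    simp only [hk, Equiv.Perm.one_apply] at h3
    rw [mul_comm (ε k.1 i)] at h3
    exact mul_left_cancel h3
  have hinj : Function.Injective fun k : π.ker => ε k.1 := fun k l h => by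
    have hk : σ k.1 = 1 := k.2
    have hl : σ l.1 = 1 := l.2
    refine Subtype.ext (Subtype.ext (Subtype.ext (Subtype.ext (P.mono_ext (hε k.1) ?_))))
    rw [hk, show ε k.1 = ε l.1 from h, ← hl]
    exact hε l.1
  have hsplit : Nat.card π.ker * R.card = 64 := by
    rw [← hRc, ← Nat.card_congr (QuotientGroup.quotientKerEquivRange π).toEquiv, mul_comm,
      ← Subgroup.card_eq_card_quotient_mul_card_subgroup, hcard]
  have hbound : ∀ (p : (Fin 7 → ℤˣ) → Prop) [DecidablePred p],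
      (∀ k : π.ker, p (ε k.1)) → Nat.card π.ker ≤ (evens.filter p).card := fun p _ hp => by
    rw [← Nat.card_eq_finsetCard]
    exact Nat.card_le_card_of_injective
      (fun k => (⟨ε k.1, Finset.mem_filter.2 ⟨(hfix k 1).1, hp k⟩⟩ : evens.filter p))
      fun k l h => hinj (congrArg Subtype.val h)
  have hxm : σ ⟨x, hx⟩ ∈ R := Finset.mem_image_of_mem _ (Finset.mem_univ _)
  have hx1 : σ ⟨x, hx⟩ ≠ 1 := fun h => hne ⟨ε ⟨x, hx⟩, by
    have h' := hε ⟨x, hx⟩
    rw [h] at h'
    exact h'⟩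
  have hR1 : ∀ p ∈ R, ∃ y : A, σ y = p := fun p hp => by
    obtain ⟨y, -, hy⟩ := Finset.mem_image.1 hp
    exact ⟨y, hy⟩
  have hsub : R ⊆ dSet := fun p hp => by
    obtain ⟨y, rfl⟩ := hR1 p hp
    exact hσ y
  have hcomm : ∀ p ∈ R, ∀ r ∈ R, p * r = r * p := fun p hp r hr => by
    obtain ⟨y, rfl⟩ := hR1 p hp
    obtain ⟨w, rfl⟩ := hR1 r hr
    show π y * π w = π w * π y
    rw [← map_mul, ← map_mul, show y * w = w * y from Subtype.ext (hc _ y.2 _ w.2)]
  have hinv : ∀ p ∈ R, p * p = 1 := fun p hp => by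
    obtain ⟨y, rfl⟩ := hR1 p hp
    show π y * π y = 1
    rw [← map_mul, show y * y = 1 from Subtype.ext (h2 _ y.2), map_one]
  have h4 := card_le_four hsub hcomm hinv
  have k16 : Nat.card π.ker ≤ 16 :=
    (hbound (fun e => e ∘ ⇑(σ ⟨x, hx⟩) = e) fun k => (hfix k _).2).trans
      (card_fix_le_sixteen _ (hσ _) hx1)
  obtain ⟨r, hr, hr1, hrx⟩ : ∃ r ∈ R, r ≠ 1 ∧ r ≠ σ ⟨x, hx⟩ := by
    by_contra hnone
    push Not at hnone
    have : R ⊆ {1, σ ⟨x, hx⟩} := fun p hp => by
      by_cases h : p = 1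
      · simp [h]
      · simp [hnone p hp h]
    have := (Finset.card_le_card this).trans Finset.card_le_two
    have := Nat.mul_le_mul k16 this
    omega
  obtain ⟨y, rfl⟩ := hR1 r hr
  have k8 : Nat.card π.ker ≤ 8 :=
    (hbound (fun e => e ∘ ⇑(σ ⟨x, hx⟩) = e ∧ e ∘ ⇑(σ y) = e)
      fun k => ⟨(hfix k _).2, (hfix k _).2⟩).trans
      (card_fix_le_eight _ (hσ _) _ (hσ _) (hinv _ hxm) (hinv _ hr) hx1 hr1 (Ne.symm hrx)
        (hcomm _ hxm _ hr))
  have := Nat.mul_le_mul k8 h4
  omega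

/-- The monomial 2-subgroup is self-normalizing. -/
theorem mem_monoSylow_of_normalizes {g : ↥(Omega F Q)}
    (hg : ∀ x ∈ monoSylow b, g * x * g⁻¹ ∈ monoSylow b) : g ∈ monoSylow b := by
  classical
  set A := (diagSub (Q := Q) b).map (MulAut.conj g).toMonoidHom with hAdef
  have hA : A ≤ monoSylow b := by
    rintro _ ⟨x, hx, rfl⟩
    exact hg x (diagSub_le hx)
  have hAd : A ≤ diagSub b := by
    refine le_diagSub P hns hA ?_ ?_ ?_
    · rintro _ ⟨x, hx, rfl⟩ _ ⟨y, hy, rfl⟩
      simp only [MulEquiv.coe_toMonoidHom]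
      rw [← map_mul, ← map_mul, mul_diag_comm P hns hx hy]
    · rintro _ ⟨x, ⟨ε, hx⟩, rfl⟩
      simp only [MulEquiv.coe_toMonoidHom]
      rw [← map_mul, show x * x = 1 from Subtype.ext (Subtype.ext (P.mono_ext (hx.mul hx)
        (by simpa [Int.units_mul_self, Pi.one_def] using mono_one))), map_one]
    · rw [hAdef, Subgroup.card_map_of_injective (MulAut.conj g).injective, card_diagSub P hns]
  have hAeq : A = diagSub b := by
    refine Subgroup.eq_of_le_of_card_ge hAd ?_
    rw [hAdef, Subgroup.card_map_of_injective (MulAut.conj g).injective]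
  -- the images of the frame vectors are common eigenvectors
  have heig : ∀ i, ∀ ε : Fin 7 → ℤˣ, ∏ j, ε j = 1 → ∃ u : ℤˣ, ∀ j,
      (sc (ε j) : F) * B (b j) ((gl g).val *ᵥ b i) =
        sc u * B (b j) ((gl g).val *ᵥ b i) := by
    intro i ε he
    obtain ⟨e, hee⟩ := P.exists_mono_omega hns (σ := 1) (ε := ε) (by simp) he
    obtain ⟨e', ⟨η, hη⟩, hee'⟩ : e ∈ A := hAeq ▸ (⟨ε, hee⟩ : e ∈ diagSub b)
    refine ⟨η i, fun j => ?_⟩
    have h1 : (gl e).val *ᵥ ((gl g).val *ᵥ b i) = (sc (η i) : F) • ((gl g).val *ᵥ b i) := by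
      rw [← mul_act, show gl e * gl g = gl g * gl e' from by
        rw [← hee']
        exact congrArg gl (show g * e' * g⁻¹ * g = g * e' by group), mul_act, hη i]
      rw [Matrix.mulVec_smul]; rfl
    have h2 := P.space.B_act (e : ↥(isometryGroup F Q)).2 (b j) ((gl g).val *ᵥ b i)
    rw [hee j] at h2
    have h3 : (gl e).val *ᵥ ((gl g).val *ᵥ b i) =
        ((e : ↥(isometryGroup F Q)) : GL ι F).val *ᵥ ((gl g).val *ᵥ b i) := rfl
    rw [← h3, h1] at h2
    simp only [map_smul, LinearMap.smul_apply, smul_eq_mul, Equiv.Perm.one_apply] at h2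
    have h4 := sc_sq (F := F) (ε j)
    linear_combination (-(sc (ε j) : F)) * h2 +
      (sc (η i) * B (b j) ((gl g).val *ᵥ b i)) * h4
  have himg : ∀ i, ∃ j, ∃ u : ℤˣ, (gl g).val *ᵥ b i = (sc u : F) • b j := by
    intro i
    set v := (gl g).val *ᵥ b i with hv
    have hvn : Q v = c := by
      rw [hv, mem_iso.mp (g : ↥(isometryGroup F Q)).2, P.norm]
    have hzero : ∀ w, (∀ j, B (b j) w = 0) → w = 0 := fun w hw => by
      refine P.space.nondeg w fun u => ?_
      have hl : B.flip w = 0 := P.basis.ext fun j => by simpa [P.basis_apply] using hw j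
      exact LinearMap.congr_fun hl u
    obtain ⟨j, hj⟩ : ∃ j, B (b j) v ≠ 0 := by
      by_contra h
      push Not at h
      rw [hzero v h, P.space.zero] at hvn
      exact P.ne hvn.symm
    have hone : ∀ k, k ≠ j → B (b k) v = 0 := fun k hk => by
      by_contra hk0
      obtain ⟨l, -, -, hl1, hl2, -, -⟩ := exists_other j k
      obtain ⟨u, hu⟩ := heig i (pairFlip j l) (prod_pairFlip hl1.symm)
      have hj' := mul_right_cancel₀ hj (hu j)
      have hk' := mul_right_cancel₀ hk0 (hu k)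
      simp [pairFlip] at hj'
      simp [pairFlip, hk, hl2.symm] at hk'
      rw [← hk'] at hj'
      exact P.two (by linear_combination -hj')
    set a := (2 * c)⁻¹ * B (b j) v with ha
    have hva : v = a • b j := by
      refine sub_eq_zero.1 (hzero _ fun k => ?_)
      by_cases hk : k = j
      · subst hk
        rw [map_sub, map_smul, P.self, smul_eq_mul, ha]
        field_simp [P.two, P.ne]
        ring
      · rw [map_sub, map_smul, P.orth k j hk, smul_zero, hone k hk, sub_zero]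
    have ha2 : a * a = 1 := by
      rw [hva, P.space.smul, P.norm] at hvn
      exact mul_right_cancel₀ P.ne (by linear_combination hvn)
    rcases mul_self_eq_one_iff.1 ha2 with h | h
    · exact ⟨j, 1, by rw [hva, h, sc_one]⟩
    · exact ⟨j, -1, by rw [hva, h, sc_neg_one]⟩
  choose s u hsu using himg
  have hs : Function.Injective s := fun i k h => by
    by_contra hik
    have h1 := P.space.B_act (g : ↥(isometryGroup F Q)).2 (b i) (b k)
    rw [hsu i, hsu k, P.orth i k hik, h, map_smul, map_smul, LinearMap.smul_apply, P.self,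
      smul_eq_mul, smul_eq_mul] at h1
    exact mul_ne_zero (sc_ne_zero (u k))
      (mul_ne_zero (sc_ne_zero (u i)) (mul_ne_zero P.two P.ne)) h1
  let σ : Equiv.Perm (Fin 7) := Equiv.ofBijective s hs.bijective_of_finite
  have hgm : Mono b σ u (gl g) := fun i => hsu i
  refine ⟨σ, mem_dSet_of_normalizes (P.even_of_mono hns hgm).1 fun d hd => ?_, u, hgm⟩
  obtain ⟨x, hx⟩ := P.exists_mono_omega hns (sign_dSet hd) (ε := 1) (by simp)
  obtain ⟨τ, hτ, η, hη⟩ := hg x ⟨d, hd, 1, hx⟩
  rwa [(P.mono_unique hη (gl_conj hgm hx)).1] at hτ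

end Cfsg.Lib.Linear.OmegaSeven
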